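import Mathlib
import Cfsg.Prelude.Def_Sporadic
import Cfsg.Agent.Lib.SmallGroups.Counting

/-!
# A group of order 95040 with 17280 elements of order 11 is simple
-/

set_option autoImplicit false

namespace Cfsg.Agent.M12Nse31

open Subgroup Cfsg.Agent.SmallGroups

variable {G : Type*} [Group G] [Finite G]

private theorem sylow_sizes : ∀ d ∈ (8640 : ℕ).divisors, ∀ q ∈ [2, 3], d.primeFactors ⊆ {q} →
    d % 11 = 1 → d = 1 := by
  decide +kernel

/-- An element of order 11 fixes no nontrivial `q`-Sylow subgroup, `q = 2, 3`. -/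
theorem not_dvd_of_invariant (hcard : Nat.card G = 95040) {x : G} (hx : orderOf x = 11)
    {K : Subgroup G} (hxK : x ∈ normalizer (K : Set G)) (h11 : ¬ 11 ∣ Nat.card K)
    (hfix : ∀ k ∈ K, Commute x k → orderOf k ∣ 55) {q : ℕ} (hq : q = 2 ∨ q = 3) :
    ¬ q ∣ Nat.card K := by
  classical
  intro hqd
  have : Fact q.Prime := ⟨by rcases hq with rfl | rfl <;> norm_num⟩
  have : Fact (Nat.Prime 11) := ⟨by norm_num⟩
  let ψ : MulAut K := K.normalizerMonoidHom ⟨x, hxK⟩
  have hψ : ψ ^ 11 = 1 := by
    rw [← map_pow, show (⟨x, hxK⟩ : normalizer (K : Set G)) ^ 11 = 1 from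
      Subtype.ext (hx ▸ pow_orderOf_eq_one x), map_one]
  have hS : ¬ 11 ∣ Nat.card (Sylow q K) := fun h => h11 (h.trans
    ((Sylow.card_dvd_index (default : Sylow q K)).trans (index_dvd_card _)))
  let σ : Equiv.Perm (Sylow q K) := MulAction.toPermHom (MulAut K) (Sylow q K) ψ
  have hσ : σ ^ 11 ^ 1 = 1 := by
    rw [pow_one, ← map_pow, hψ, map_one]
  have := Fintype.ofFinite (Sylow q K)
  rw [Nat.card_eq_fintype_card] at hS
  obtain ⟨S, hfixS⟩ := Equiv.Perm.exists_fixed_point_of_prime hS hσ
  have hmem : ∀ k : K, k ∈ (S : Subgroup K) → ψ k ∈ (S : Subgroup K) := by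
    intro k hk
    have hh : ψ • S = S := hfixS
    rw [← hh]
    exact Subgroup.smul_mem_pointwise_smul k ψ _ hk
  let τ : Function.End (S : Subgroup K) := fun k => ⟨ψ k.1, hmem k.1 k.2⟩
  have hτ : ∀ (j : ℕ) (k : (S : Subgroup K)), ((τ ^ j : Function.End _) k).1 = (ψ ^ j) k.1 := by
    intro j
    induction j with
    | zero => intro k; rfl
    | succ j ih =>
      intro k
      rw [pow_succ', pow_succ', MulAut.mul_apply, ← ih k]
      rfl
  have hτ11 : τ ^ 11 ^ 1 = 1 := by
    funext k
    apply Subtype.ext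
    rw [pow_one, hτ, hψ]
    rfl
  have := Fintype.ofFinite (S : Subgroup K)
  have := Fintype.ofFinite (Function.fixedPoints τ)
  have hmod := Equiv.Perm.card_fixedPoints_modEq (f := τ) hτ11
  obtain ⟨j, hj⟩ := S.isPGroup'.exists_card_eq
  have hone : Fintype.card (Function.fixedPoints τ) = 1 := by
    rw [Fintype.card_eq_one_iff]
    refine ⟨⟨1, Subtype.ext (map_one ψ)⟩, fun k => Subtype.ext (Subtype.ext (Subtype.ext ?_))⟩
    have h1 : x * ((k.1.1 : K) : G) * x⁻¹ = ((k.1.1 : K) : G) :=
      congrArg (fun z : (S : Subgroup K) => ((z.1 : K) : G)) k.2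
    have hc := hfix _ k.1.1.2 (mul_inv_eq_iff_eq_mul.mp h1)
    have hq' : orderOf ((k.1.1 : K) : G) ∣ q ^ j := by
      rw [orderOf_coe, orderOf_coe, ← hj]
      exact orderOf_dvd_natCard _
    have hco : Nat.Coprime (q ^ j) 55 := Nat.Coprime.pow_left _
      (by rcases hq with rfl | rfl <;> norm_num)
    exact orderOf_eq_one_iff.mp (Nat.eq_one_of_dvd_coprimes hco hq' hc)
  simp only [← Nat.card_eq_fintype_card] at hone hmod
  rw [hone, hj] at hmod
  have hj0 : j ≠ 0 := by
    rintro rfl
    rw [pow_zero] at hj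
    exact S.ne_bot_of_dvd_card hqd (Subgroup.eq_bot_of_card_eq _ hj)
  have hd : q ^ j ∣ 95040 := hj ▸ hcard ▸
    ((card_subgroup_dvd_card _).trans (card_subgroup_dvd_card K))
  have hd' : q ^ j ∣ 8640 := by
    refine (Nat.Coprime.pow_left j ?_).dvd_of_dvd_mul_left (show q ^ j ∣ 11 * 8640 by simpa using hd)
    rcases hq with rfl | rfl <;> norm_num
  have h1 : q ^ j = 1 := by
    refine sylow_sizes _ (Nat.mem_divisors.mpr ⟨hd', by norm_num⟩) q
      (by rcases hq with rfl | rfl <;> simp) ?_ hmod
    rw [Nat.primeFactors_prime_pow hj0 (Fact.out : q.Prime)]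
  rcases pow_eq_one_iff.mp h1 with h2 | h2
  · rcases hq with rfl | rfl <;> omega
  · exact hj0 h2

private theorem n_big : ∀ d ∈ (8640 : ℕ).divisors, d % 11 = 1 → 780 ≤ d → d = 1728 := by
  decide +kernel

/-- The number of Sylow 11-subgroups from a bound on a normaliser. -/
theorem card_sylow_eleven_of_le [Fact (Nat.Prime 11)] (hcard : Nat.card G = 95040)
    (P : Sylow 11 G) (h : Nat.card ↥(normalizer ((P : Subgroup G) : Set G)) ≤ 121) :
    Nat.card (Sylow 11 G) = 1728 := by
  obtain ⟨hd, hm⟩ := card_sylow_mem (p := 11) (a := 1) (m := 8640) (G := G)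
    (by rw [hcard]; norm_num) (by norm_num)
  refine n_big _ (Nat.mem_divisors.mpr ⟨hd, by norm_num⟩) hm ?_
  have := card_normalizer_mul P
  rw [hcard] at this
  by_contra h'
  have := Nat.mul_le_mul h (show Nat.card (Sylow 11 G) ≤ 779 by omega)
  nlinarith

private theorem k_small : ∀ d ∈ (8640 : ℕ).divisors, ¬ 2 ∣ d → ¬ 3 ∣ d → d = 1 ∨ d = 5 := by
  decide +kernel

/-- Simplicity from the count of elements of order 11. -/
theorem isM12_of_count (hcard : Nat.card G = 95040)
    (h : Nat.card {g : G // orderOf g = 11} = 17280) : Cfsg.IsM12 G := by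
  classical
  have : Fact (Nat.Prime 5) := ⟨by norm_num⟩
  have : Fact (Nat.Prime 11) := ⟨by norm_num⟩
  have := Fintype.ofFinite G
  have hP11 : ∀ P : Sylow 11 G, Nat.card ↥(P : Subgroup G) = 11 := fun P => by
    simpa using card_sylow_eq (p := 11) (a := 1) (m := 8640) (by rw [hcard]; norm_num)
      (by norm_num) P
  have hn11 : Nat.card (Sylow 11 G) = 1728 := by
    rw [card_orderOf_eq hP11] at h
    omega
  have hN55 : ∀ P : Sylow 11 G, Nat.card ↥(normalizer ((P : Subgroup G) : Set G)) = 55 :=
    fun P => normalizer_conj_eq_card P hn11 (by rw [hcard])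
  have hcomm : ∀ {x k : G}, orderOf x = 11 → Commute x k → orderOf k ∣ 55 := by
    intro x k hx hk
    obtain ⟨P, hP⟩ := exists_mem_sylow hx
    have hz := zpowers_eq_of_card_prime (hP11 P) hP
      (fun e => by rw [e, orderOf_one] at hx; norm_num at hx)
    rw [← hN55 P]
    refine Subgroup.orderOf_dvd_natCard _ ?_
    refine centralizer_le_normalizer _ ?_
    rw [← hz, mem_centralizer_iff]
    rintro w ⟨m, rfl⟩
    exact (hk.zpow_left m).eq
  -- no normal subgroup of order prime to 11 and divisible by 2 or 3, none of order 5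
  have hno : ∀ K : Subgroup G, K.Normal → ¬ 11 ∣ Nat.card K → K = ⊥ := by
    intro K hK h11
    have hd : Nat.card K ∣ 8640 :=
      ((Nat.Prime.coprime_iff_not_dvd (by norm_num)).mpr h11).symm.dvd_of_dvd_mul_right
        (show Nat.card K ∣ 8640 * 11 from (card_subgroup_dvd_card K).trans (dvd_of_eq hcard))
    obtain ⟨P⟩ := (inferInstance : Nonempty (Sylow 11 G))
    obtain ⟨x, hx⟩ := exists_prime_orderOf_dvd_card' (G := (P : Subgroup G)) 11 (by rw [hP11 P])
    have hxG : orderOf (x : G) = 11 := by rw [orderOf_coe, hx]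
    have hnd := fun (L : Subgroup G) hxL h11' q hq => not_dvd_of_invariant hcard hxG
      (K := L) hxL h11' (fun k _ hk => hcomm hxG hk) (q := q) hq
    have hxK : (x : G) ∈ normalizer (K : Set G) := by rw [normalizer_eq_top]; exact mem_top _
    rcases k_small _ (Nat.mem_divisors.mpr ⟨hd, by norm_num⟩) (hnd K hxK h11 2 (Or.inl rfl))
      (hnd K hxK h11 3 (Or.inr rfl)) with e | e
    · exact eq_bot_of_card_eq K e
    exfalso
    -- `K` of order 5 is centralised by `P`, so `N(P) = K P` is abelian
    set NP := normalizer ((P : Subgroup G) : Set G) with hNP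
    have hz := zpowers_eq_of_card_prime (hP11 P) x.2
      (fun e' => by rw [e', orderOf_one] at hxG; norm_num at hxG)
    have hKc : K ≤ centralizer ((P : Subgroup G) : Set G) := by
      intro k hk
      have : IsCyclic K := isCyclic_of_prime_card e
      obtain ⟨r, hr⟩ := IsCyclic.exists_generator (α := K)
      -- `x` acts on the five elements of `K` through a permutation of order dividing 11
      let σ : Equiv.Perm K := (K.normalizerMonoidHom ⟨x, hxK⟩).toEquiv
      have hσ : σ ^ 11 ^ 1 = 1 := by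
        have : (K.normalizerMonoidHom ⟨x, hxK⟩) ^ 11 = 1 := by
          rw [← map_pow, show (⟨(x : G), hxK⟩ : normalizer (K : Set G)) ^ 11 = 1 from
            Subtype.ext ((congrArg ((x : G) ^ ·) hxG.symm).trans (pow_orderOf_eq_one _)), map_one]
        ext a
        have := congrArg (fun φ : MulAut K => φ a) this
        simp only [MulAut.one_apply] at this
        rw [pow_one, Equiv.Perm.one_apply]
        exact congrArg Subtype.val this
      have hσ1 : σ = 1 := by
        have h1 : orderOf σ ∣ 11 := orderOf_dvd_of_pow_eq_one (by simpa using hσ)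
        rcases (Nat.dvd_prime (by norm_num : Nat.Prime 11)).mp h1 with h2 | h2
        · exact orderOf_eq_one_iff.mp h2
        · have h3 := orderOf_dvd_natCard σ
          rw [h2, Nat.card_perm, e] at h3
          norm_num [Nat.factorial] at h3
      have hfix : (x : G) * k * (x : G)⁻¹ = k :=
        congrArg (fun y : K => (y : G)) (Equiv.Perm.ext_iff.mp hσ1 ⟨k, hk⟩)
      rw [← hz, mem_centralizer_iff]
      rintro w ⟨m, rfl⟩
      exact ((show Commute (x : G) k from mul_inv_eq_iff_eq_mul.mp hfix).zpow_left m).eq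
    have hPc : (P : Subgroup G) ≤ centralizer ((P : Subgroup G) : Set G) := by
      have : IsCyclic ↥(P : Subgroup G) := isCyclic_of_prime_card (hP11 P)
      exact le_centralizer _
    have hC : Nat.card ↥(centralizer ((P : Subgroup G) : Set G)) = 55 := by
      refine Nat.dvd_antisymm ((card_dvd_of_le (centralizer_le_normalizer _)).trans (dvd_of_eq (hN55 P))) ?_
      exact Nat.Coprime.mul_dvd_of_dvd_of_dvd (by norm_num : Nat.Coprime 5 11)
        ((dvd_of_eq e.symm).trans (card_dvd_of_le hKc)) ((dvd_of_eq (hP11 P).symm).trans (card_dvd_of_le hPc))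
    have hle : normalizer ((P : Subgroup G) : Set G) ≤ centralizer ((P : Subgroup G) : Set G) :=
      (eq_of_le_of_card_ge (centralizer_le_normalizer _) (by rw [hN55 P, hC])).ge
    have hcompl := MonoidHom.ker_transferSylow_isComplement' P hle
    have hk := hcompl.card_mul
    rw [hcard, hP11 P] at hk
    set K0 := (MonoidHom.transferSylow P hle).ker
    exact hnd K0 (by rw [normalizer_eq_top]; exact mem_top _) (by omega) 2 (Or.inl rfl) (by omega)
  have : Nontrivial G := Finite.one_lt_card_iff_nontrivial.mp (by rw [hcard]; norm_num)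
  refine ⟨⟨fun N hN => ?_⟩, hcard⟩
  by_cases h11 : 11 ∣ Nat.card N
  swap
  · exact Or.inl (hno N hN h11)
  right
  obtain ⟨x, hx⟩ := exists_prime_orderOf_dvd_card' 11 h11
  have hxG : orderOf (x : G) = 11 := by rw [orderOf_coe, hx]
  obtain ⟨P, hP⟩ := exists_mem_sylow hxG
  have hz := zpowers_eq_of_card_prime (hP11 P) hP
    (fun e => by rw [e, orderOf_one] at hxG; norm_num at hxG)
  have hPN : (P : Subgroup G) ≤ N := hz ▸ zpowers_le.mpr x.2
  let P' : Sylow 11 N := P.subtype hPN
  have htop := Sylow.normalizer_sup_eq_top P'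
  set NP := normalizer ((P : Subgroup G) : Set G) with hNP
  have hmap : (P' : Subgroup N).map N.subtype = P := by
    rw [Sylow.coe_subtype, subgroupOf_map_subtype, inf_eq_left.mpr hPN]
  rw [hmap] at htop
  have hidx : N.index = N.relIndex NP := by
    rw [← relIndex_top_right, ← htop, relIndex_sup_right]
  have hmul : Nat.card ↥(N ⊓ NP : Subgroup G) * N.relIndex NP = 55 := by
    rw [← hN55 P, ← inf_relIndex_right N NP, ← relIndex_bot_left, ← relIndex_bot_left,
      relIndex_mul_relIndex _ _ _ bot_le inf_le_right]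
  have hd11 : 11 ∣ Nat.card ↥(N ⊓ NP : Subgroup G) :=
    hP11 P ▸ card_dvd_of_le (le_inf hPN le_normalizer)
  have hNmul := card_mul_index N
  rw [hidx, hcard] at hNmul
  obtain ⟨e, he⟩ := hd11
  rw [he] at hmul
  have h5 : e * N.relIndex NP = 5 := by nlinarith
  rcases (Nat.dvd_prime (by norm_num : Nat.Prime 5)).mp ⟨e, by rw [mul_comm]; exact h5.symm⟩
    with hr | hr
  · rw [hr, mul_one] at hNmul
    exact (card_eq_iff_eq_top N).mp (hNmul.trans hcard.symm)
  exfalso
  have he1 : e = 1 := by rw [hr] at h5; omega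
  rw [he1, mul_one] at he
  have hN : Nat.card N = 19008 := by rw [hr] at hNmul; omega
  have hinf : N ⊓ NP = (P : Subgroup G) :=
    (eq_of_le_of_card_ge (le_inf hPN le_normalizer) (by rw [he, hP11 P])).symm
  have hc : normalizer ((P' : Subgroup N) : Set N) ≤ centralizer ((P' : Subgroup N) : Set N) := by
    intro y hy
    have hyP : (y : G) ∈ (P : Subgroup G) := by
      rw [← hinf]
      refine ⟨y.2, ?_⟩
      rw [hNP, ← hmap]
      refine le_normalizer_map (N.subtype) ?_
      exact ⟨y, hy, rfl⟩
    rw [mem_centralizer_iff]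
    intro z hz'
    have hzP : (z : G) ∈ (P : Subgroup G) := by rw [← hmap]; exact ⟨z, hz', rfl⟩
    rw [← hz] at hyP hzP
    obtain ⟨a, ha⟩ := hyP
    obtain ⟨b, hb⟩ := hzP
    apply Subtype.ext
    simp only [Subgroup.coe_mul, ← ha, ← hb, ← zpow_add, add_comm]
  have hcompl := MonoidHom.ker_transferSylow_isComplement' P' hc
  have hk := hcompl.card_mul
  rw [hN, ← card_map_of_injective (f := N.subtype) N.subtype_injective (K := (P' : Subgroup N)), hmap,
    hP11 P] at hk
  set K0 := (MonoidHom.transferSylow P' hc).ker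
  have hK : Nat.card (K0.map N.subtype) = 1728 := by
    rw [card_map_of_injective N.subtype_injective]
    omega
  have hxK : (x : G) ∈ normalizer ((K0.map N.subtype : Subgroup G) : Set G) := by
    refine le_normalizer_map (N.subtype) ⟨x, ?_, rfl⟩
    rw [normalizer_eq_top]
    exact mem_top _
  exact not_dvd_of_invariant hcard hxG hxK (by rw [hK]; norm_num)
    (fun k _ hk => hcomm hxG hk) (Or.inl rfl) (by rw [hK]; norm_num)

end Cfsg.Agent.M12Nse31
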