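import Cfsg.Agent.M12Nse31.Simple
import Cfsg.Agent.Lib.Steiner.M11.Sylow
import Cfsg.Agent.Lib.Golay.M12
import Cfsg.Prelude.Def_Spor_Mathieu

/-!
# Elements of order 11 in M₁₂
-/

set_option autoImplicit false

namespace Cfsg.Agent.M12Nse31

open Subgroup Cfsg.Agent.SmallGroups Cfsg.Agent.Golay
open Cfsg (GolayPt)

/-- In M₁₂ only powers of an element of order 11 commute with it. -/
theorem commute_eleven {x g : Spor.M12} (hx : orderOf x = 11) (hg : Commute g x) :
    g ∈ zpowers x := by
  classical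
  set X : Equiv.Perm GolayPt := x.1 with hXdef
  set D := Spor.squareDodecad with hD
  have hXo : orderOf X = 11 := by rw [hXdef, Subgroup.orderOf_coe, hx]
  have hX1 : X ≠ 1 := fun e => by rw [e, orderOf_one] at hXo; norm_num at hXo
  obtain ⟨q, hq, hqX⟩ : ∃ q ∈ D, X q ≠ q := by
    by_contra h
    push Not at h
    have := card_fixed12_le x.2 hX1
    rw [Finset.filter_true_of_mem h, card_squareDodecad] at this
    omega
  have hpowD : ∀ (i : ℕ) (p : GolayPt), (X ^ i) p ∈ D ↔ p ∈ D := fun i p =>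
    apply_mem_D (Spor.M12.pow_mem x.2 i) p
  have hper : ∀ i : ℕ, (X ^ i) q = q → 11 ∣ i := by
    intro i hi
    by_contra h
    have hco : Nat.Coprime i 11 := ((Nat.Prime.coprime_iff_not_dvd (by norm_num)).mpr h).symm
    obtain ⟨k, hk⟩ := exists_pow_eq_self_of_coprime (x := X) (hXo ▸ hco)
    refine hqX ?_
    have : ∀ k : ℕ, ((X ^ i) ^ k) q = q := by
      intro k
      induction k with
      | zero => rfl
      | succ k ih => rw [pow_succ, Equiv.Perm.mul_apply, hi, ih]
    rw [← hk]
    exact this k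
  set O : Finset GolayPt := (Finset.range 11).image fun i => (X ^ i) q with hO
  have hOsub : O ⊆ D := by
    intro p hp
    obtain ⟨i, -, rfl⟩ := Finset.mem_image.mp hp
    exact (hpowD i q).2 hq
  have hinj : ∀ i < 11, ∀ j < 11, i ≤ j → (X ^ i) q = (X ^ j) q → i = j := by
    intro i hi j hj hij e
    have h1 : (X ^ (j - i)) q = q := by
      apply (X ^ i).injective
      rw [← Equiv.Perm.mul_apply, ← pow_add, Nat.add_sub_cancel' hij, e]
    have := hper _ h1
    omega
  have hOcard : O.card = 11 := by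
    rw [hO, Finset.card_image_of_injOn, Finset.card_range]
    intro i hi j hj e
    simp only [Finset.coe_range, Set.mem_Iio] at hi hj
    rcases le_total i j with h | h
    · exact hinj i hi j hj h e
    · exact (hinj j hj i hi h e.symm).symm
  obtain ⟨r, hr⟩ := Finset.card_eq_one.mp (show (D \ O).card = 1 by
    rw [Finset.card_sdiff_of_subset hOsub, hOcard, card_squareDodecad])
  have hrD : r ∈ D ∧ r ∉ O := Finset.mem_sdiff.mp (hr ▸ Finset.mem_singleton_self r)
  have honly : ∀ p ∈ D, p ∉ O → p = r := fun p hp hpO =>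
    Finset.mem_singleton.mp (hr ▸ Finset.mem_sdiff.mpr ⟨hp, hpO⟩)
  have hmove : ∀ i : ℕ, X ((X ^ i) q) ∈ O := by
    intro i
    refine Finset.mem_image.mpr ⟨(i + 1) % 11, Finset.mem_range.mpr (Nat.mod_lt _ (by norm_num)), ?_⟩
    rw [← hXo, pow_mod_orderOf, pow_succ', Equiv.Perm.mul_apply]
  have hXr : X r = r := by
    refine honly _ ((hpowD 1 r).2 hrD.1 |> fun h => by simpa using h) fun h => hrD.2 ?_
    obtain ⟨i, -, hi⟩ := Finset.mem_image.mp h
    refine Finset.mem_image.mpr ⟨(i + 10) % 11, Finset.mem_range.mpr (Nat.mod_lt _ (by norm_num)), ?_⟩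
    apply X.injective
    rw [← hi, ← hXo, pow_mod_orderOf, ← Equiv.Perm.mul_apply, ← pow_succ',
      show i + 10 + 1 = i + orderOf X by omega, pow_add, pow_orderOf_eq_one, mul_one]
  set g' : Equiv.Perm GolayPt := g.1 with hg'
  have hgX : ∀ i : ℕ, g' * X ^ i = X ^ i * g' := fun i =>
    ((hg.map Spor.M12.subtype).pow_right i).eq
  have hgr : g' r = r := by
    refine honly _ ((apply_mem_D g.2 r).2 hrD.1) fun h => ?_
    obtain ⟨i, -, hi⟩ := Finset.mem_image.mp h
    have h1 : X (g' r) = g' r := by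
      rw [← Equiv.Perm.mul_apply, ← pow_one X, ← hgX 1, pow_one, Equiv.Perm.mul_apply, hXr]
    rw [← hi, ← Equiv.Perm.mul_apply, ← pow_succ'] at h1
    have h2 : X q = q := by
      apply (X ^ i).injective
      rw [← Equiv.Perm.mul_apply, ← pow_succ]
      exact h1
    exact hqX h2
  have hgq : g' q ∈ O := by
    by_contra h
    have := honly _ ((apply_mem_D g.2 q).2 hq) h
    rw [← hgr] at this
    rw [← g'.injective this] at hrD
    exact hrD.2 (Finset.mem_image.mpr ⟨0, by simp, by simp⟩)
  obtain ⟨k, -, hk⟩ := Finset.mem_image.mp hgq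
  refine mem_zpowers_iff.mpr ⟨k, ?_⟩
  rw [zpow_natCast]
  refine Subtype.ext (eq12_of_D (Spor.M12.pow_mem x.2 k) g.2 fun p hp => ?_)
  change (X ^ k) p = g' p
  by_cases hpO : p ∈ O
  · obtain ⟨i, -, rfl⟩ := Finset.mem_image.mp hpO
    rw [← Equiv.Perm.mul_apply, ← Equiv.Perm.mul_apply, hgX i, (pow_mul_comm X i k).symm,
      Equiv.Perm.mul_apply, Equiv.Perm.mul_apply, hk]
  · rw [honly p hp hpO, hgr]
    have : ∀ k : ℕ, (X ^ k) r = r := by
      intro k
      induction k with
      | zero => rfl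
      | succ k ih => rw [pow_succ, Equiv.Perm.mul_apply, hXr, ih]
    exact this k

/-- M₁₂ has 17280 elements of order 11. -/
theorem count_eleven : Nat.card {g : Spor.M12 // orderOf g = 11} = 17280 := by
  classical
  have : Fact (Nat.Prime 11) := ⟨by norm_num⟩
  have hcard : Nat.card Spor.M12 = 95040 := card_M12
  have := Fintype.ofFinite Spor.M12
  have hP11 : ∀ P : Sylow 11 Spor.M12, Nat.card ↥(P : Subgroup Spor.M12) = 11 := fun P => by
    simpa using card_sylow_eq (p := 11) (a := 1) (m := 8640) (by rw [hcard]; norm_num)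
      (by norm_num) P
  obtain ⟨P⟩ := (inferInstance : Nonempty (Sylow 11 Spor.M12))
  obtain ⟨x, hx⟩ := exists_prime_orderOf_dvd_card' (G := (P : Subgroup Spor.M12)) 11 (by rw [hP11 P])
  have hxo : orderOf (x : Spor.M12) = 11 := by rw [Subgroup.orderOf_coe, hx]
  have hC : centralizer ((P : Subgroup Spor.M12) : Set Spor.M12) ≤ zpowers (x : Spor.M12) :=
    fun g hg => commute_eleven hxo ((mem_centralizer_iff.mp hg _ x.2).symm)
  have hN : Nat.card ↥(normalizer ((P : Subgroup Spor.M12) : Set Spor.M12)) ≤ 121 := by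
    have h1 := relIndex_centralizer_dvd_of_prime (P : Subgroup Spor.M12) (hP11 P)
    have h2 := Cfsg.Agent.Steiner.M11.card_centralizer_mul_relIndex' (P : Subgroup Spor.M12)
    have h3 := (Subgroup.card_le_of_le hC).trans (Nat.card_zpowers (x : Spor.M12)).le
    rw [hxo] at h3
    have h4 := Nat.le_of_dvd (by norm_num) h1
    rw [← h2]
    exact Nat.mul_le_mul h3 (h4.trans (by norm_num : 11 - 1 ≤ 11))
  rw [card_orderOf_eq hP11, card_sylow_eleven_of_le hcard P hN]

/-- The counts of M₁₂ for other orders are `0`, `1` or multiples of 11. -/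
theorem count_other {n : ℕ} (hn1 : n ≠ 1) (hn : n ≠ 11) :
    11 ∣ Nat.card {g : Spor.M12 // orderOf g = n} := by
  classical
  have : Fact (Nat.Prime 11) := ⟨by norm_num⟩
  obtain ⟨x, hx⟩ := exists_prime_orderOf_dvd_card' (G := Spor.M12) 11 (by rw [card_M12]; norm_num)
  let α := {g : Spor.M12 // orderOf g = n}
  let f : Function.End α := fun g => ⟨x * g.1 * x⁻¹, by
    have h := orderOf_injective (MulAut.conj x).toMonoidHom (MulAut.conj x).injective g.1
    exact h.trans g.2⟩
  have hf : ∀ (j : ℕ) (g : α), ((f ^ j : Function.End α) g).1 = x ^ j * g.1 * (x ^ j)⁻¹ := by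
    intro j
    induction j with
    | zero => intro g; simp; rfl
    | succ j ih =>
      intro g
      rw [pow_succ' f, pow_succ' x]
      show x * ((f ^ j : Function.End α) g).1 * x⁻¹ = _
      rw [ih g]
      group
  have hf11 : f ^ 11 ^ 1 = 1 := by
    funext g
    refine Subtype.ext ?_
    rw [pow_one, hf, ← hx, pow_orderOf_eq_one, one_mul, inv_one, mul_one]
    rfl
  have := Fintype.ofFinite α
  have := Fintype.ofFinite (Function.fixedPoints f)
  have hmod := Equiv.Perm.card_fixedPoints_modEq (f := f) hf11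
  have h0 : Fintype.card (Function.fixedPoints f) = 0 := by
    rw [Fintype.card_eq_zero_iff]
    refine ⟨fun g => ?_⟩
    have h1 : x * g.1.1 * x⁻¹ = g.1.1 := congrArg Subtype.val g.2
    obtain ⟨k, hk⟩ := mem_zpowers_iff.mp
      (commute_eleven hx (show Commute g.1.1 x from (mul_inv_eq_iff_eq_mul.mp h1).symm))
    have h2 : orderOf g.1.1 ∣ 11 := by
      rw [← hk, ← hx]
      exact orderOf_dvd_of_mem_zpowers (zpow_mem (mem_zpowers x) k)
    rw [g.1.2] at h2
    rcases (Nat.dvd_prime (by norm_num : Nat.Prime 11)).mp h2 with h | h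
    · exact hn1 h
    · exact hn h
  simp only [← Nat.card_eq_fintype_card] at h0 hmod
  rw [h0] at hmod
  exact Nat.modEq_zero_iff_dvd.mp hmod

/-- A group with the order and the element-order counts of M₁₂ is simple. -/
theorem isM12_of_nse {G : Type*} [Group G] [Finite G]
    (hcard : Nat.card G = Nat.card ↥Spor.M12)
    (hnse : {c : ℕ | 0 < c ∧ ∃ n : ℕ, c = Nat.card {g : G // orderOf g = n}} =
      {c : ℕ | 0 < c ∧ ∃ n : ℕ, c = Nat.card {g : ↥Spor.M12 // orderOf g = n}}) :
    Cfsg.IsM12 G := by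
  classical
  rw [card_M12] at hcard
  refine isM12_of_count hcard ?_
  have : Fact (Nat.Prime 11) := ⟨by norm_num⟩
  have := Fintype.ofFinite G
  have hP11 : ∀ P : Sylow 11 G, Nat.card ↥(P : Subgroup G) = 11 := fun P => by
    simpa using card_sylow_eq (p := 11) (a := 1) (m := 8640) (by rw [hcard]; norm_num)
      (by norm_num) P
  obtain ⟨hd, hm⟩ := card_sylow_mem (p := 11) (a := 1) (m := 8640) (G := G)
    (by rw [hcard]; norm_num) (by norm_num)
  have hcount := card_orderOf_eq hP11
  set c := Nat.card {g : G // orderOf g = 11} with hc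
  have hmem : c ∈ {c : ℕ | 0 < c ∧ ∃ n : ℕ, c = Nat.card {g : G // orderOf g = n}} :=
    ⟨by rw [hcount]; have := Nat.card_pos (α := Sylow 11 G); omega, 11, hc⟩
  rw [hnse] at hmem
  obtain ⟨hpos, n, hn⟩ := hmem
  by_cases h11 : n = 11
  · rw [hn, h11, count_eleven]
  exfalso
  by_cases h1 : n = 1
  · subst h1
    have : Nat.card {g : Spor.M12 // orderOf g = 1} = 1 := by
      rw [Nat.card_eq_one_iff_unique]
      exact ⟨⟨fun a b => Subtype.ext ((orderOf_eq_one_iff.mp a.2).trans
        (orderOf_eq_one_iff.mp b.2).symm)⟩, ⟨⟨1, orderOf_one⟩⟩⟩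
    omega
  have := count_other h1 h11
  rw [← hn, hcount] at this
  omega

end Cfsg.Agent.M12Nse31
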